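import Cfsg.Agent.H278.Cov.Defs
import Cfsg.Agent.H392.UG.Base
import Cfsg.Agent.H900.SU4.Base
import Cfsg.Agent.H251.GeoUMain
import Cfsg.Agent.H494.PSURow
import Cfsg.Agent.S0813
import Cfsg.Agent.S0815
import Cfsg.Prelude.Def_Spor_Mathieu
import Cfsg.Agent.ClassicalGeometry.PSL2Basic
import Cfsg.Agent.H771.KTools_m3
import Cfsg.Agent.FastGrp
import Cfsg.Agent.Prune
set_option linter.all false

section
prune_inst 0x7f00000000000000000000000000000000000000000000000000000000000000000000000000000000000000000000000000000000000000000000000000000000000000000000000000000000000000003fffffffffffffffffffffffffffbeffbdffffffff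

-- part: H834/Cov/Crit
section
set_option linter.all false
open scoped Cfsg.Agent.FastGrp

/-!
# S2499, `PSU_7(q)` and `PSU_8(q)` (helper834, task 3952): the criterion and arithmetic

* `noTwo_of_props`, `noTwo_psu_of` : the criterion with three invariant properties of elements of `SU_n(q) ≤ GL_n(q²)`;
* `core_dvd` : an element of prime order `s ∤ q² - 1` of a group in the residual class gives `s ∣ |Aut(S)|`;
* `subfield_kill` : subfield groups and primes `s` with `-q` of order `m`, `n < 2 m`.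
-/

set_option autoImplicit false

namespace Cfsg.Agent.H834.Cov

open Cfsg Cfsg.Geo Module Cfsg.Agent.H278.Cov Cfsg.Agent.H918 Cfsg.Agent.H251 Cfsg.Agent.H251.GeoCard Cfsg.Agent.H951
open scoped Matrix MatrixGroups

/-- the criterion with three properties of elements -/
theorem noTwo_of_props {G : Type*} [Group G] [Finite G] {a b c : G} {PA PB PC : G → Prop} {TA TB : Subgroup G → Prop}
    (hPA : ∀ g x, PA x → PA (g * x * g⁻¹)) (hPB : ∀ g x, PB x → PB (g * x * g⁻¹))
    (hPC : ∀ g x, PC x → PC (g * x * g⁻¹)) (ha : PA a) (hb : PB b) (hc : PC c)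
    (hA : ∀ H : Subgroup G, IsCoatom H → ∀ x ∈ H, PA x → TA H)
    (hB : ∀ H : Subgroup G, IsCoatom H → ∀ x ∈ H, PB x → TB H)
    (hAB : ∀ H : Subgroup G, IsCoatom H → ∀ x ∈ H, PA x → ∀ y ∈ H, PB y → False)
    (hCA : ∀ H : Subgroup G, TA H → ∀ x ∈ H, PC x → False)
    (hCB : ∀ H : Subgroup G, TB H → ∀ x ∈ H, PC x → False) : NoTwo G := by
  refine noTwo_of_two (a := a) (b := b) (fun H hH => ?_) (fun H K hH hK haH hbK => ?_)
  · by_contra hcon
    push Not at hcon
    obtain ⟨g, hg⟩ := not_av hcon.1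
    obtain ⟨k, hk⟩ := not_av hcon.2
    exact hAB H hH _ hg (hPA g a ha) _ hk (hPB k b hb)
  · exact ⟨c, fun g hg => hCA H (hA H hH a haH ha) _ hg (hPC g c hc),
      fun g hg => hCB K (hB K hK b hbK hb) _ hg (hPC g c hc)⟩

theorem isMaximalIn_map {G Γ : Type*} [Group G] [Group Γ] {f : G →* Γ} (hf : Function.Injective f) {S : Subgroup Γ}
    (hr : f.range = S) {K : Subgroup G} (hK : IsCoatom K) : IsMaximalIn S (K.map f) := by
  refine ⟨lt_of_le_of_ne (by rw [← hr]; exact Subgroup.map_le_range f K) fun h => ?_, fun M h1 h2 => ?_⟩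
  · apply hK.1
    apply Subgroup.map_injective hf
    rw [h, ← hr, MonoidHom.range_eq_map]
  · have h3 : K ≤ M.comap f := Subgroup.map_le_iff_le_comap.1 h1
    have h4 : (M.comap f).map f = M := by
      rw [Subgroup.map_comap_eq, hr, inf_eq_right.2 h2]
    rcases eq_or_lt_of_le h3 with h | h
    · left
      rw [← h4, ← h]
    · right
      rw [← h4, hK.2 _ h, ← hr, MonoidHom.range_eq_map]

/-- the criterion for `PSU_n(q)`, in `GL_n(q²)` -/
theorem noTwo_psu_of {F : Type} [Field F] [Fintype F] {n q : ℕ} {a b c : GL (Fin n) F} (haS : a ∈ SUg n F q)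
    (hbS : b ∈ SUg n F q) (hcS : c ∈ SUg n F q) {PA PB PC : GL (Fin n) F → Prop}
    {TA TB : Subgroup (GL (Fin n) F) → Prop}
    (hPA : ∀ g ∈ SUg n F q, ∀ x, PA x → PA (g * x * g⁻¹)) (hPB : ∀ g ∈ SUg n F q, ∀ x, PB x → PB (g * x * g⁻¹))
    (hPC : ∀ g ∈ SUg n F q, ∀ x, PC x → PC (g * x * g⁻¹)) (ha : PA a) (hb : PB b) (hc : PC c)
    (hA : ∀ H, IsMaximalIn (SUg n F q) H → ∀ x ∈ H, PA x → TA H)
    (hB : ∀ H, IsMaximalIn (SUg n F q) H → ∀ x ∈ H, PB x → TB H)
    (hAB : ∀ H, IsMaximalIn (SUg n F q) H → ∀ x ∈ H, PA x → ∀ y ∈ H, PB y → False)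
    (hCA : ∀ H, TA H → ∀ x ∈ H, PC x → False)
    (hCB : ∀ H, TB H → ∀ x ∈ H, PC x → False) : NoTwo (PSU n F q) := by
  obtain ⟨a', ha'⟩ := exists_suHom haS
  obtain ⟨b', hb'⟩ := exists_suHom hbS
  obtain ⟨c', hc'⟩ := exists_suHom hcS
  have hfin : Finite (Cfsg.SU n F q) := inferInstance
  have hmax : ∀ H : Subgroup (Cfsg.SU n F q), IsCoatom H → IsMaximalIn (SUg n F q) (H.map (suHom n F q)) :=
    fun H hH => isMaximalIn_map suHom_injective range_suHom hH
  have hmem : ∀ (H : Subgroup (Cfsg.SU n F q)) (x : Cfsg.SU n F q), x ∈ H → suHom n F q x ∈ H.map (suHom n F q) :=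
    fun H x hx => ⟨x, hx, rfl⟩
  have key : NoTwo (Cfsg.SU n F q) := by
    refine noTwo_of_props (a := a') (b := b') (c := c') (PA := fun x => PA (suHom n F q x))
      (PB := fun x => PB (suHom n F q x)) (PC := fun x => PC (suHom n F q x))
      (TA := fun H => TA (H.map (suHom n F q))) (TB := fun H => TB (H.map (suHom n F q)))
      ?_ ?_ ?_ ?_ ?_ ?_ ?_ ?_ ?_ ?_ ?_
    · intro g x hx
      simp only [map_mul, map_inv]
      exact hPA _ (suHom_mem g) _ hx
    · intro g x hx
      simp only [map_mul, map_inv]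
      exact hPB _ (suHom_mem g) _ hx
    · intro g x hx
      simp only [map_mul, map_inv]
      exact hPC _ (suHom_mem g) _ hx
    · rw [ha']; exact ha
    · rw [hb']; exact hb
    · rw [hc']; exact hc
    · intro H hH x hx h
      exact hA _ (hmax H hH) _ (hmem H x hx) h
    · intro H hH x hx h
      exact hB _ (hmax H hH) _ (hmem H x hx) h
    · intro H hH x hx h y hy h'
      exact hAB _ (hmax H hH) _ (hmem H x hx) h _ (hmem H y hy) h'
    · intro H hH x hx h
      exact hCA _ hH _ (hmem H x hx) h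
    · intro H hH x hx h
      exact hCB _ hH _ (hmem H x hx) h
  exact key.of_surjective (QuotientGroup.mk' _) (QuotientGroup.mk'_surjective _)

/-- an element of prime order in a group of the residual class -/
theorem core_dvd {F : Type*} [Field F] [Fintype F] {n s : ℕ} (hn : 0 < n) {H P : Subgroup (GL (Fin n) F)}
    (hP : IsResidualCore H P) (hs : s.Prime) (hs1 : ¬ s ∣ Nat.card F - 1) {x : GL (Fin n) F} (hx : x ∈ H)
    (ho : orderOf x = s) : s ∣ Nat.card (MulAut (P ⧸ (scalars (Fin n) F).subgroupOf P)) := by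
  classical
  have hfG : Finite (GL (Fin n) F) := inferInstance
  obtain ⟨φ, hφ⟩ := H900.SU4.exists_core_inj hP
  set x' : H := ⟨x, hx⟩ with hx'
  have ho' : orderOf x' = s := by rw [← ho, hx', Subgroup.orderOf_mk]
  set y := φ (QuotientGroup.mk' ((scalars (Fin n) F).subgroupOf H) x') with hy
  have h1 : orderOf y ∣ s := by
    rw [hy, orderOf_injective φ hφ, ← ho']
    exact orderOf_map_dvd _ _
  rcases (Nat.dvd_prime hs).1 h1 with h2 | h2
  · exfalso
    rw [hy, orderOf_injective φ hφ, orderOf_eq_one_iff] at h2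
    have h3 : x' ∈ (scalars (Fin n) F).subgroupOf H := (QuotientGroup.eq_one_iff x').1 h2
    have h4 : x ∈ scalars (Fin n) F := Subgroup.mem_subgroupOf.1 h3
    obtain ⟨c, hc⟩ := (mem_scalars_iff _).1 h4
    have hxs : x ^ s = 1 := by rw [← ho]; exact pow_orderOf_eq_one x
    have hcs : c ^ s = 1 := by
      have h5 := congrArg (fun g : GL (Fin n) F => (g : Matrix (Fin n) (Fin n) F) ⟨0, hn⟩ ⟨0, hn⟩) hxs
      simp only [Units.val_pow_eq_pow_val, hc, _root_.smul_pow, one_pow, Units.val_one, Matrix.smul_apply,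
        Matrix.one_apply_eq, smul_eq_mul, mul_one] at h5
      exact Units.ext (by rw [Units.val_pow_eq_pow_val, h5, Units.val_one])
    have hc1 : c ≠ 1 := by
      rintro rfl
      have : x = 1 := Units.ext (by rw [hc]; simp)
      rw [this, orderOf_one] at ho
      exact hs.one_lt.ne ho
    apply hs1
    have h6 : orderOf c = s := orderOf_eq_prime hcs hc1 (hp := ⟨hs⟩)
    rw [Nat.card_eq_fintype_card, ← Fintype.card_units, ← h6]
    exact orderOf_dvd_card
  · rw [← h2, ← Nat.card_zpowers]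
    exact Subgroup.card_subgroup_dvd_card _

/-- subfield groups -/
theorem subfield_kill {F : Type*} [Field F] [Fintype F] {n q : ℕ} (hF : Fintype.card F = q ^ 2) {s p f m : ℕ}
    (hp : p.Prime) (hq : q = p ^ f) (hf : 1 ≤ f) (hs : s.Prime) (hiff : ∀ k, s ∣ p ^ k - 1 ↔ 2 * m * f ∣ k)
    (hord : orderOf (-(q : ZMod s)) = m) (hm : Odd m) (hm1 : 2 ≤ m) (hnm : n < 2 * m) {F₀ : Subfield F} {r : ℕ}
    (hr : 2 ≤ r) (hc : Fintype.card F = Nat.card F₀ ^ r) {P : GL (Fin n) F}
    (h : s ∣ Nat.card (subfieldSubgroup F₀ P)) : False := by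
  have hsq := GeoU.not_dvd_of_ord hs hord (by omega)
  rcases subfield hs (GeoU.not_dvd_card hF hs hsq) h with h1 | h1
  · have h2 : Div s (q ^ 2) 1 := div_one le_rfl (by rwa [← GeoU.nat_card_eq hF])
    have h3 := GeoU.ord_le_of_div (Nat.one_le_pow _ _ (LieClassical.HermBasic.q_pos hF)) h2
    rw [GeoU.ord_sq_odd hord hm] at h3
    omega
  · rw [Fintype.card_fin] at h1
    obtain ⟨i, hi1, hi2, hi3⟩ := h1
    rw [hF, hq, ← pow_mul] at hc
    obtain ⟨a, -, ha⟩ := (Nat.dvd_prime_pow hp).1 (show Nat.card F₀ ∣ p ^ (f * 2) by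
      rw [hc]; exact dvd_pow_self _ (by omega))
    rw [ha, ← pow_mul] at hc hi3
    have har : f * 2 = a * r := Nat.pow_right_injective hp.two_le hc
    have h4 := (hiff _).1 hi3
    have ha0 : 0 < a := by
      rcases Nat.eq_zero_or_pos a with rfl | h5
      · omega
      · exact h5
    have h5 : a * (m * r) ∣ a * i := by
      have : 2 * m * f = a * (m * r) := by
        calc 2 * m * f = m * (f * 2) := by ring
          _ = a * (m * r) := by rw [har]; ring
      rwa [this] at h4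
    have h6 := Nat.le_of_dvd (by omega) (Nat.dvd_of_mul_dvd_mul_left ha0 h5)
    have h7 : 2 * m ≤ m * r := by
      rw [mul_comm 2 m]
      exact Nat.mul_le_mul_left _ hr
    omega

/-- decompositions -/
theorem decomp_kill {F : Type*} [Field F] [Fintype F] {n q : ℕ} (hF : Fintype.card F = q ^ 2) {s m : ℕ}
    (hs : s.Prime) (hord : orderOf (-(q : ZMod s)) = m) (hm : Odd m) (hm1 : 2 ≤ m) {t k : ℕ} (hts : t < s)
    (hkm : k < m) {D : Fin t → Submodule F (Fin n → F)} (hD : IsMDecomposition k D)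
    (h : s ∣ Nat.card (decompositionStabilizer D)) : False := by
  have hsq := GeoU.not_dvd_of_ord hs hord (by omega)
  rcases decomp hD hs (GeoU.not_dvd_card hF hs hsq) h with h1 | h1
  · omega
  · rw [GeoU.nat_card_eq hF] at h1
    have h2 := GeoU.ord_le_of_div (Nat.one_le_pow _ _ (LieClassical.HermBasic.q_pos hF)) h1
    rw [GeoU.ord_sq_odd hord hm] at h2
    omega

/-- tensor products -/
theorem tensor_kill {F : Type*} [Field F] [Fintype F] {n q : ℕ} (hF : Fintype.card F = q ^ 2) {s m : ℕ}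
    (hs : s.Prime) (hord : orderOf (-(q : ZMod s)) = m) (hm : Odd m) (hm1 : 2 ≤ m) {n₁ n₂ : ℕ}
    (e : Fin n ≃ Fin n₁ × Fin n₂) (P : GL (Fin n) F) (h12 : max n₁ n₂ < m)
    (h : s ∣ Nat.card (tensorProductSubgroup n₁ n₂ e P)) : False := by
  have hsq := GeoU.not_dvd_of_ord hs hord (by omega)
  have h1 := tensor e P hs (GeoU.not_dvd_card hF hs hsq) h
  rw [GeoU.nat_card_eq hF] at h1
  have h3 := GeoU.ord_le_of_div (Nat.one_le_pow _ _ (LieClassical.HermBasic.q_pos hF)) h1
  rw [GeoU.ord_sq_odd hord hm] at h3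
  omega

/-- symplectic type -/
theorem symp_kill {F : Type*} [Field F] [Fintype F] {n q : ℕ} (hF : Fintype.card F = q ^ 2) {s m : ℕ}
    (hs : s.Prime) (hord : orderOf (-(q : ZMod s)) = m) (hm : Odd m) (hm1 : 2 ≤ m) (hn : 2 ≤ n) (hsm : n + 1 < s)
    {r k : ℕ} {R : Subgroup (GL (Fin n) F)} (hR : IsSymplecticTypeGroup r R)
    (habs : ActsAbsolutelyIrreducibly (matrixSet R)) (ht : H920.IsType r k R)
    (h : s ∣ Nat.card (subgroupNormalizer R)) : False := by
  have hne : Nonempty (Fin n) := ⟨⟨0, by omega⟩⟩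
  have hcard := H920.card_of_type hR habs ht
  rw [Fintype.card_fin] at hcard
  have hk : 1 ≤ k := by
    by_contra hk0
    have : k = 0 := by omega
    rw [this, pow_zero] at hcard
    omega
  rcases symplecticType hR habs ht hk hs h with h1 | h1 | h1
  · have h2 : r ≤ r ^ k := Nat.le_self_pow (by omega) r
    omega
  · have h2 : Div s (q ^ 2) 1 := div_one le_rfl (by rwa [← GeoU.nat_card_eq hF])
    have h3 := GeoU.ord_le_of_div (Nat.one_le_pow _ _ (LieClassical.HermBasic.q_pos hF)) h2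
    rw [GeoU.ord_sq_odd hord hm] at h3
    omega
  · omega

end Cfsg.Agent.H834.Cov
end

-- part: H729/CovU
section
set_option linter.all false
open scoped Cfsg.Agent.FastGrp

/-!
# S2499, unitary groups: geometric overgroups of an element of prime order `s`, `-q` of odd order `m > n / 2` modulo `s`,
and the elements `x + y` (helper729)

* `geo_over`   : the geometric subgroups of `SU_n(q)` of order divisible by `s`
* `geo_over_pre` : the same for the proper subgroups of `PSU_n(q)`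
* `exists_c`   : an element `c` of `PSU_{k+l}(q)` which avoids all subgroups of order prime to `s` (`-q` has order `k`
  modulo `s`) and the stabilisers of small totally singular / nondegenerate subspaces
* `isMaximalIn_pre` : coatoms of `PSU_n(q)`
-/

set_option autoImplicit false
set_option linter.unusedSectionVars false

namespace Cfsg.Agent.H729.CovU

open Cfsg Cfsg.Geo Module Cfsg.Agent.H251.GeoCard Cfsg.Agent.H951 Cfsg.Agent.H251.GeoU
open Cfsg.Agent.LieClassical
open Cfsg.Agent.H278.Cov (Av)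
open scoped Matrix MatrixGroups

section geom

variable {F : Type*} [Field F] [Fintype F] {n q : ℕ}

theorem q_one_lt (hF : Fintype.card F = q ^ 2) : 1 < q := by
  have h1 : 1 < Fintype.card F := Fintype.one_lt_card
  rw [hF] at h1
  by_contra h
  have h2 : q ≤ 1 := by omega
  have h3 : q ^ 2 ≤ 1 ^ 2 := Nat.pow_le_pow_left h2 2
  omega

/-- extension field groups -/
theorem ext_dvd (hF : Fintype.card F = q ^ 2) {s m : ℕ} (hs : s.Prime) (hord : orderOf (-(q : ZMod s)) = m)
    (hm : Odd m) (hn : 1 ≤ n) (hnm : n < 2 * m) (hsm : n < s) {r : ℕ} (hr : r.Prime) (hr3 : 3 ≤ r)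
    {K : Subalgebra F (Matrix (Fin n) (Fin n) F)} (hK : IsFieldSubalgebra r K)
    (h : s ∣ Nat.card (subalgebraNormalizer K)) : r ∣ n ∧ r ∣ m ∧ m / r ≤ n / r := by
  have hne : Nonempty (Fin n) := ⟨⟨0, by omega⟩⟩
  have hsq := not_dvd_of_ord hs hord (by omega)
  have hrn : r ∣ n := by
    have := H912.finrank_dvd_of_fieldSub hK
    rwa [Fintype.card_fin] at this
  have hle := Nat.le_of_dvd (by omega) hrn
  rcases extension hr hK hs (not_dvd_card hF hs hsq) h with h1 | h1
  · omega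
  · rw [nat_card_eq hF, Fintype.card_fin] at h1
    have h2 := ord_le_of_div (Nat.one_le_pow _ _ (Nat.one_le_pow _ _ (LieClassical.HermBasic.q_pos hF))) h1
    have h3 : orderOf (((q ^ 2) ^ r : ℕ) : ZMod s) = m / Nat.gcd m r := by
      have h4 : (((q ^ 2) ^ r : ℕ) : ZMod s) = ((q ^ 2 : ℕ) : ZMod s) ^ r := by push_cast; rfl
      rw [h4, orderOf_pow' _ hr.ne_zero, ord_sq_odd hord hm]
    rw [h3] at h2
    have h5 : r ∣ m := by
      by_contra h5
      have h6 : Nat.gcd m r = 1 := by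
        rw [← Nat.coprime_iff_gcd_eq_one, Nat.coprime_comm, hr.coprime_iff_not_dvd]
        exact h5
      rw [h6, Nat.div_one] at h2
      have h7 : n / r ≤ n / 3 := Nat.div_le_div_left hr3 (by norm_num)
      omega
    refine ⟨hrn, h5, ?_⟩
    rwa [Nat.gcd_eq_right h5] at h2

theorem geo_over (hF : Fintype.card F = q ^ 2) {p f m s : ℕ} (hp : p.Prime) (hq : q = p ^ f) (hf : 1 ≤ f)
    (hs : s.Prime) (hiff : ∀ k, s ∣ p ^ k - 1 ↔ 2 * m * f ∣ k) (hord : orderOf (-(q : ZMod s)) = m) (hm : Odd m)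
    (hn : 4 ≤ n) (hnm : n < 2 * m) (hsm : n + 1 < s) {X : Subgroup (GL (Fin n) F)} (hX : InUnitaryClass n F q X)
    (h : s ∣ Nat.card X) :
    (∃ W : Submodule F (Fin n → F), W ≠ ⊥ ∧ IsTotallySingularFor (hermForm n F q) W ∧ 2 * finrank F W + m ≤ n ∧
      X = subspaceStabilizer W ⊓ Cfsg.GU n F q) ∨
    (∃ W : Submodule F (Fin n → F), W ≠ ⊥ ∧ IsNondegenerateOn (hermForm n F q) W ∧ 2 * finrank F W < n ∧
      finrank F W + m ≤ n ∧ X = subspaceStabilizer W ⊓ Cfsg.GU n F q) ∨
    (∃ (r : ℕ) (K : Subalgebra F (Matrix (Fin n) (Fin n) F)), r.Prime ∧ Odd r ∧ r ∣ n ∧ r ∣ m ∧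
      IsFieldSubalgebra r K ∧ X = subalgebraNormalizer K ⊓ Cfsg.GU n F q) := by
  have := Fact.mk hs
  have hsq := not_dvd_of_ord hs hord (by omega)
  have hr := natCast_ne hF hs hsq
  have hm1 : m ≤ 1 → False := fun h => by omega
  have hqq := Nat.one_le_pow 2 q (LieClassical.HermBasic.q_pos hF)
  have hsF := not_dvd_card hF hs hsq
  have hscal : ¬ s ∣ Nat.card F - 1 := by
    intro h1
    have h2 : _root_.Cfsg.Agent.H251.GeoCard.Div s (q ^ 2) 1 := div_one le_rfl (by rwa [← nat_card_eq hF])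
    have h3 := ord_le_of_div hqq h2
    rw [ord_sq_odd hord hm] at h3
    omega
  have hdec : ∀ {t k : ℕ} {D : Fin t → Submodule F (Fin n → F)}, IsMDecomposition k D →
      s ∣ Nat.card (decompositionStabilizer D) → False := by
    intro t k D hD h
    have htk : t * k = n := by rw [H918.decomp_card hD, Fintype.card_fin]
    have ht2 := hD.two_le
    have hk := hD.pos
    rcases decomp hD hs hsF h with h1 | h1
    · have : t ≤ t * k := Nat.le_mul_of_pos_right _ hk
      omega
    · rw [nat_card_eq hF] at h1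
      have h2 := ord_le_of_div hqq h1
      rw [ord_sq_odd hord hm] at h2
      have h3 : 2 * k ≤ t * k := Nat.mul_le_mul_right _ ht2
      omega
  have hsub : ∀ {F₀ : Subfield F} {r : ℕ} (_ : 2 ≤ r) (_ : Fintype.card F = Nat.card F₀ ^ r) {P : GL (Fin n) F},
      s ∣ Nat.card (subfieldSubgroup F₀ P) → False := by
    intro F₀ r hr2 hc P h
    rcases subfield hs hsF h with h1 | h1
    · exact hscal h1
    · rw [Fintype.card_fin] at h1
      obtain ⟨i, hi1, hi2, hi3⟩ := h1
      rw [hF, hq, ← pow_mul] at hc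
      obtain ⟨a, -, ha⟩ := (Nat.dvd_prime_pow hp).1 (show Nat.card F₀ ∣ p ^ (f * 2) by
        rw [hc]; exact dvd_pow_self _ (by omega))
      rw [ha, ← pow_mul] at hc hi3
      have har : f * 2 = a * r := Nat.pow_right_injective hp.two_le hc
      have h4 := (hiff _).1 hi3
      have ha0 : 0 < a := by
        rcases Nat.eq_zero_or_pos a with rfl | h5
        · omega
        · exact h5
      have h5 : a * (m * r) ∣ a * i := by
        have : 2 * m * f = a * (m * r) := by
          calc 2 * m * f = m * (f * 2) := by ring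
            _ = a * (m * r) := by rw [har]; ring
        rwa [this] at h4
      have h6 := Nat.le_of_dvd (by omega) (Nat.dvd_of_mul_dvd_mul_left ha0 h5)
      have h7 : m * 2 ≤ m * r := Nat.mul_le_mul_left _ hr2
      omega
  rcases hX with hM | hM | hM | hM
  · rcases hM with hM | hM | hM | hM | hM | hM | hM | hM
    · -- totally singular subspaces
      obtain ⟨W, hW0, hW, rfl⟩ := hM
      left
      refine ⟨W, hW0, hW, ?_, rfl⟩
      obtain ⟨g, hg, hi, hgs, hg1⟩ := _root_.Cfsg.Agent.H251.GeoU.exists_elt hs h inf_le_right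
      have hfix := fix_le hF hsq hi hgs hg1
      rw [hord] at hfix
      have h2 : 2 * finrank F W ≤ n := by
        have h3 := (H950.frm_herm hF n).two_mul_finrank_le (H950.nd_top hF n) le_top (W := W) hW
        rwa [finrank_top, finrank_fintype_fun_eq_card, Fintype.card_fin] at h3
      have hle : W ≤ fx (Matrix.toLin' (g : Matrix (Fin n) (Fin n) F)) := by
        apply le_fx hr hgs (inv_of_mem hg.1)
        rw [hF, ord_sq_odd hord hm]
        omega
      have hnd := hi.nd_fx (H950.frm_herm hF n) hr hgs (H950.nd_top hF n)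
      have h3 := (H950.frm_herm hF n).two_mul_finrank_le hnd hle (W := W) hW
      omega
    · -- nondegenerate subspaces
      obtain ⟨W, hW0, hW, hW2, rfl⟩ := hM
      right; left
      refine ⟨W, hW0, hW, hW2, ?_, rfl⟩
      obtain ⟨g, hg, hi, hgs, hg1⟩ := _root_.Cfsg.Agent.H251.GeoU.exists_elt hs h inf_le_right
      have hfix := fix_le hF hsq hi hgs hg1
      rw [hord] at hfix
      have hle : W ≤ fx (Matrix.toLin' (g : Matrix (Fin n) (Fin n) F)) := by
        apply le_fx hr hgs (inv_of_mem hg.1)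
        rw [hF, ord_sq_odd hord hm]
        omega
      have := Submodule.finrank_mono hle
      omega
    · obtain ⟨t, k, D, hD, rfl⟩ := hM
      exact (hdec hD.decomp (dvd_left h)).elim
    · obtain ⟨k, D, hk, hD, -, rfl⟩ := hM
      exact (hdec hD (dvd_left h)).elim
    · obtain ⟨F₀, r, P, hr, hro, hc, -, rfl⟩ := hM
      exact (hsub hr.two_le hc (dvd_left h)).elim
    · obtain ⟨F₀, P, -, hc, -, rfl⟩ := hM
      exact (hsub le_rfl hc (dvd_left h)).elim
    · obtain ⟨F₀, P, ζ, -, hc, -, -, -, -, rfl⟩ := hM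
      exact (hsub le_rfl hc (dvd_left h)).elim
    · obtain ⟨r, R, p', e, k, hR, habs, -, -, -, hc, rfl⟩ := hM
      have ht : H920.IsType r k R := by
        rcases hc with ⟨h1, h2, -, h3⟩ | ⟨h1, -, h2, h3⟩
        · exact Or.inl ⟨h1, h2, h3⟩
        · exact Or.inr ⟨h1, h2, h3⟩
      exfalso
      have hne : Nonempty (Fin n) := ⟨⟨0, by omega⟩⟩
      have hcard := H920.card_of_type hR habs ht
      rw [Fintype.card_fin] at hcard
      have hk : 1 ≤ k := by
        by_contra hk0
        have : k = 0 := by omega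
        rw [this, pow_zero] at hcard
        omega
      rcases symplecticType hR habs ht hk hs (dvd_left h) with h1 | h1 | h1
      · have h2 : r ≤ r ^ k := Nat.le_self_pow (by omega) r
        omega
      · exact hscal h1
      · omega
  · obtain ⟨r, K, hr, hro, hK, -, rfl⟩ := hM
    have hr3 : 3 ≤ r := by
      have := hr.two_le
      obtain ⟨k, hk⟩ := hro
      omega
    obtain ⟨h1, h2, -⟩ := ext_dvd hF hs hord hm (by omega) hnm (by omega) hr hr3 hK (dvd_left h)
    exact Or.inr (Or.inr ⟨r, K, hr, hro, h1, h2, hK, rfl⟩)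
  · obtain ⟨n₁, n₂, e, P, f₁, f₂, h2, hlt, -, -, -, rfl⟩ := hM
    exfalso
    have hcard : n = n₁ * n₂ := by
      have := Fintype.card_congr e
      simpa only [_root_.Fintype.card_fin, _root_.Fintype.card_prod] using this
    have h1 := tensor e P hs hsF (dvd_left h)
    rw [nat_card_eq hF] at h1
    have h3 := ord_le_of_div hqq h1
    rw [ord_sq_odd hord hm, max_eq_right hlt.le] at h3
    have h4 : 2 * n₂ ≤ n₁ * n₂ := Nat.mul_le_mul_right _ h2
    omega
  · obtain ⟨k, t, e, P, f₁, hk, ht, -, -, -, rfl⟩ := hM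
    exfalso
    have hcard : n = k ^ t := by
      have := Fintype.card_congr e
      simpa only [_root_.Fintype.card_fin, _root_.Fintype.card_pi, _root_.Finset.prod_const, _root_.Finset.card_univ] using this
    rcases wreath e P hs hsF (dvd_left h) with h1 | h1
    · have : t < k ^ t := Nat.lt_pow_self (by omega)
      omega
    · rw [nat_card_eq hF] at h1
      have h3 := ord_le_of_div hqq h1
      rw [ord_sq_odd hord hm] at h3
      have h4 : k ^ 2 ≤ k ^ t := Nat.pow_le_pow_right (by omega) ht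
      have h5 : 3 * k ≤ k ^ 2 := by rw [pow_two]; exact Nat.mul_le_mul_right _ hk
      omega

/-- proper subgroups of `PSU_n(q)` of order divisible by `s` -/
theorem geo_over_pre (hF : Fintype.card F = q ^ 2) {p f m s : ℕ} (hp : p.Prime) (hq : q = p ^ f) (hf : 1 ≤ f)
    (hs : s.Prime) (hiff : ∀ k, s ∣ p ^ k - 1 ↔ 2 * m * f ∣ k) (hord : orderOf (-(q : ZMod s)) = m) (hm : Odd m)
    (hn : 4 ≤ n) (hnm : n < 2 * m) (hsm : n + 1 < s) {M : Subgroup (PSU n F q)} (hM : M ≠ ⊤) (h : s ∣ Nat.card M) :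
    (∃ W : Submodule F (Fin n → F), W ≠ ⊥ ∧ IsTotallySingularFor (hermForm n F q) W ∧ 2 * finrank F W + m ≤ n ∧
      pre M ≤ subspaceStabilizer W) ∨
    (∃ W : Submodule F (Fin n → F), W ≠ ⊥ ∧ IsNondegenerateOn (hermForm n F q) W ∧ 2 * finrank F W < n ∧
      finrank F W + m ≤ n ∧ pre M ≤ subspaceStabilizer W) ∨
    (∃ (r : ℕ) (K : Subalgebra F (Matrix (Fin n) (Fin n) F)), r.Prime ∧ Odd r ∧ r ∣ n ∧ r ∣ m ∧
      IsFieldSubalgebra r K ∧ pre M ≤ subalgebraNormalizer K) ∨ InUnitaryResidualClass (pre M) := by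
  have h' : s ∣ Nat.card (pre M) := h.trans (card_dvd_pre M)
  rcases S5663.result (F := F) n q hF (by omega) (by omega) (pre M) (pre_le M) (pre_proper M hM) with
    ⟨X, hX, hle⟩ | hres
  · rcases geo_over hF hp hq hf hs hiff hord hm hn hnm hsm hX (h'.trans (Subgroup.card_dvd_of_le hle)) with
      ⟨W, h1, h2, h3, rfl⟩ | ⟨W, h1, h2, h3, h4, rfl⟩ | ⟨r, K, h1, h2, h3, h4, h5, rfl⟩
    · exact Or.inl ⟨W, h1, h2, h3, hle.trans inf_le_left⟩
    · exact Or.inr (Or.inl ⟨W, h1, h2, h3, h4, hle.trans inf_le_left⟩)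
    · exact Or.inr (Or.inr (Or.inl ⟨r, K, h1, h2, h3, h4, h5, hle.trans inf_le_left⟩))
  · exact Or.inr (Or.inr (Or.inr hres))

end geom

section blocks

variable {F : Type*} [Field F] [Fintype F] {n q : ℕ}

open Cfsg.Agent.H494.PSURow (blk blk_injective eq_one_left eq_one_right)

/-- the linear maps of the elements of `SU_n(q)` -/
noncomputable def L (n : ℕ) (F : Type*) [Field F] (q : ℕ) : SU n F q →* Module.End F (Fin n → F) where
  toFun x := Matrix.toLin' (((H918.suHom n F q x : GL (Fin n) F)) : Matrix (Fin n) (Fin n) F)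
  map_one' := by
    rw [map_one, Units.val_one, Matrix.toLin'_one]
    rfl
  map_mul' x y := by
    rw [map_mul, Units.val_mul, Matrix.toLin'_mul]
    rfl

theorem L_apply (x : SU n F q) (v : Fin n → F) :
    L n F q x v = ((H918.suHom n F q x : GL (Fin n) F) : Matrix (Fin n) (Fin n) F) *ᵥ v := by
  show Matrix.toLin' _ v = _
  rw [Matrix.toLin'_apply]

theorem L_isom (x : SU n F q) : Isom (hermForm n F q) (L n F q x) := by
  intro u v
  rw [L_apply, L_apply]
  exact H918.mem_GU.1 (H918.suHom_mem x).1 u v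

theorem L_injective : Function.Injective (L n F q) := by
  intro x y h
  apply H918.suHom_injective
  apply Units.ext
  exact Matrix.toLin'.injective h

/-- no fixed vectors -/
theorem eq_zero_of_fix (hF : Fintype.card F = q ^ 2) {s : ℕ} (hs : s.Prime) (hn : 1 ≤ n)
    (hord : orderOf (-(q : ZMod s)) = n) {x : SU n F q} (hx : x ^ s = 1) (hx1 : x ≠ 1) {v : Fin n → F}
    (hv : L n F q x v = v) : v = 0 := by
  have := Fact.mk hs
  have hsq := not_dvd_of_ord hs hord hn
  have h1 := fix_le hF hsq (L_isom x) (by rw [← map_pow, hx, map_one])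
    (fun h => hx1 (L_injective (by rw [h, map_one])))
  rw [hord] at h1
  have h2 : finrank F ↥(fx (L n F q x)) = 0 := by omega
  rw [Submodule.finrank_eq_zero] at h2
  have h3 : v ∈ fx (L n F q x) := mem_fx.2 hv
  rwa [h2, Submodule.mem_bot] at h3

theorem L_blk_inl {k l : ℕ} (x : SU k F q) (y : SU l F q) (w : Fin (k + l) → F) (i : Fin k) :
    L (k + l) F q (blk k l F q (x, y)) w (finSumFinEquiv (.inl i)) =
      L k F q x (fun j => w (finSumFinEquiv (.inl j))) i := by
  rw [L_apply, L_apply]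
  change ((Matrix.reindex finSumFinEquiv finSumFinEquiv (Matrix.fromBlocks x.1.1 0 0 y.1.1)) *ᵥ w) _ =
    (x.1.1 *ᵥ _) i
  rw [Matrix.reindex_apply, Matrix.submatrix_mulVec_equiv, Function.comp_apply, Equiv.symm_apply_apply,
    Matrix.fromBlocks_mulVec]
  simp only [Matrix.zero_mulVec, add_zero]
  rfl

theorem L_blk_inr {k l : ℕ} (x : SU k F q) (y : SU l F q) (w : Fin (k + l) → F) (i : Fin l) :
    L (k + l) F q (blk k l F q (x, y)) w (finSumFinEquiv (.inr i)) =
      L l F q y (fun j => w (finSumFinEquiv (.inr j))) i := by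
  rw [L_apply, L_apply]
  change ((Matrix.reindex finSumFinEquiv finSumFinEquiv (Matrix.fromBlocks x.1.1 0 0 y.1.1)) *ᵥ w) _ =
    (y.1.1 *ᵥ _) i
  rw [Matrix.reindex_apply, Matrix.submatrix_mulVec_equiv, Function.comp_apply, Equiv.symm_apply_apply,
    Matrix.fromBlocks_mulVec]
  simp only [Matrix.zero_mulVec, zero_add]
  rfl

/-- no common fixed vectors -/
theorem eq_zero_of_blk (hF : Fintype.card F = q ^ 2) {s t k l : ℕ} (hs : s.Prime) (ht : t.Prime) (hk : 1 ≤ k)
    (hl : 1 ≤ l) (hso : orderOf (-(q : ZMod s)) = k) (hto : orderOf (-(q : ZMod t)) = l) {x : SU k F q}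
    {y : SU l F q} (hx : x ^ s = 1) (hx1 : x ≠ 1) (hy : y ^ t = 1) (hy1 : y ≠ 1) {v : Fin (k + l) → F}
    (h1 : L (k + l) F q (blk k l F q (x, 1)) v = v) (h2 : L (k + l) F q (blk k l F q (1, y)) v = v) : v = 0 := by
  have h3 : (fun j => v (finSumFinEquiv (.inl j))) = (0 : Fin k → F) := by
    refine eq_zero_of_fix hF hs hk hso hx hx1 ?_
    funext i
    rw [← L_blk_inl x 1 v i, h1]
  have h4 : (fun j => v (finSumFinEquiv (.inr j))) = (0 : Fin l → F) := by
    refine eq_zero_of_fix hF ht hl hto hy hy1 ?_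
    funext i
    rw [← L_blk_inr 1 y v i, h2]
  funext i
  obtain ⟨j | j, rfl⟩ := finSumFinEquiv.surjective i
  · exact congrFun h3 j
  · exact congrFun h4 j

theorem pow_ne_one {G : Type*} [Group G] {x : G} {s t : ℕ} (hs : s.Prime) (ht : t.Prime) (hst : s ≠ t)
    (hx : orderOf x = s) : x ^ t ≠ 1 := by
  intro h
  have h1 := orderOf_dvd_of_pow_eq_one h
  rw [hx] at h1
  exact hst ((Nat.prime_dvd_prime_iff_eq hs ht).1 h1)

theorem exists_orderOf (hF : Fintype.card F = q ^ 2) {s k : ℕ} (hs : s.Prime) (hk : 2 ≤ k)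
    (hso : orderOf (-(q : ZMod s)) = k) : ∃ x : SU k F q, orderOf x = s := by
  have := Fact.mk hs
  have h1 := H149.PGU.dvd_card_psu hF hk hs hk le_rfl hso
  have h2 : s ∣ Nat.card (SU k F q) := h1.trans (Subgroup.card_quotient_dvd_card _)
  exact exists_prime_orderOf_dvd_card' s h2

/-- the element `c` -/
theorem exists_c (hF : Fintype.card F = q ^ 2) {s t k l : ℕ} (hn : n = k + l) (hn3 : 3 ≤ n) (hk : 2 ≤ k) (hl : 2 ≤ l)
    (hs : s.Prime) (ht : t.Prime) (hst : s ≠ t) (hso : orderOf (-(q : ZMod s)) = k)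
    (hto : orderOf (-(q : ZMod t)) = l) :
    ∃ c : PSU n F q,
      (∀ M : Subgroup (PSU n F q), ¬ s ∣ Nat.card M → Av c M) ∧
      (∀ M : Subgroup (PSU n F q), ¬ t ∣ Nat.card M → Av c M) ∧
      (∀ (M : Subgroup (PSU n F q)) (W : Submodule F (Fin n → F)), W ≠ ⊥ →
        finrank F W < orderOf ((q ^ 2 : ℕ) : ZMod s) →
        (finrank F W < orderOf ((q ^ 2 : ℕ) : ZMod t) ∨ (IsNondegenerateOn (hermForm n F q) W ∧ ¬ l ∣ finrank F W)) →
        pre M ≤ subspaceStabilizer W → Av c M) := by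
  subst hn
  have := Fact.mk hs
  have := Fact.mk ht
  obtain ⟨x, hx⟩ := exists_orderOf (F := F) hF hs hk hso
  obtain ⟨y, hy⟩ := exists_orderOf (F := F) hF ht hl hto
  have hxs : x ^ s = 1 := by rw [← hx, pow_orderOf_eq_one]
  have hyt : y ^ t = 1 := by rw [← hy, pow_orderOf_eq_one]
  set C := blk k l F q (x, y) with hC
  have hCt : C ^ t = blk k l F q (x ^ t, 1) := by rw [hC, ← map_pow, Prod.pow_mk, hyt]
  have hCs : C ^ s = blk k l F q (1, y ^ s) := by rw [hC, ← map_pow, Prod.pow_mk, hxs]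
  have hCts : C ^ (t * s) = 1 := by
    rw [pow_mul, hCt, ← map_pow, Prod.pow_mk, ← pow_mul, mul_comm, pow_mul, hxs, one_pow, one_pow]
    exact map_one _
  have hx1 := pow_ne_one hs ht hst hx
  have hy1 := pow_ne_one ht hs hst.symm hy
  let π := QuotientGroup.mk' (Subgroup.center (SU (k + l) F q))
  have hord1 : orderOf (π C ^ t) = s := by
    apply orderOf_eq_prime
    · rw [← pow_mul, ← map_pow, hCts, map_one]
    · intro h
      rw [← map_pow, hCt] at h
      exact hx1 (eq_one_left hF hn3 (by omega) ((QuotientGroup.eq_one_iff _).1 h))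
  have hord2 : orderOf (π C ^ s) = t := by
    apply orderOf_eq_prime
    · rw [← pow_mul, mul_comm, ← map_pow, hCts, map_one]
    · intro h
      rw [← map_pow, hCs] at h
      exact hy1 (eq_one_right hF hn3 (by omega) ((QuotientGroup.eq_one_iff _).1 h))
  refine ⟨π C, fun M hM => ?_, fun M hM => ?_, ?_⟩
  · exact Av.of_pow (n := t) (Cfsg.Agent.H278.Cov.av_of_card (by rwa [hord1]))
  · exact Av.of_pow (n := s) (Cfsg.Agent.H278.Cov.av_of_card (by rwa [hord2]))
  · intro M W hW0 hWs hWt hle g hg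
    obtain ⟨A, rfl⟩ := QuotientGroup.mk'_surjective _ g
    set D := A * C * A⁻¹ with hD
    have hDM : H918.suHom (k + l) F q D ∈ pre M := by
      refine ⟨D, ?_, rfl⟩
      change π D ∈ M
      rw [hD, map_mul, map_mul, map_inv]
      exact hg
    have hDt : D ^ t = A * C ^ t * A⁻¹ := by rw [hD, conj_pow]
    have hDs : D ^ s = A * C ^ s * A⁻¹ := by rw [hD, conj_pow]
    have hDts : D ^ (t * s) = 1 := by rw [hD, conj_pow, hCts, mul_one, mul_inv_cancel]
    have hinv : ∀ j : ℕ, _root_.Cfsg.Agent.H951.Inv (L (k + l) F q (D ^ j)) W := by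
      intro j
      have h1 : H918.suHom (k + l) F q (D ^ j) ∈ subspaceStabilizer W := by
        rw [map_pow]
        exact Subgroup.pow_mem _ (hle hDM) j
      exact inv_of_mem h1
    have hsq := not_dvd_of_ord hs hso (by omega)
    have htq := not_dvd_of_ord ht hto (by omega)
    have hrs := natCast_ne hF hs hsq
    have hrt := natCast_ne hF ht htq
    have hcom : fx (L (k + l) F q (D ^ t)) ⊓ fx (L (k + l) F q (D ^ s)) = ⊥ := by
      rw [eq_bot_iff]
      rintro v ⟨hv1, hv2⟩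
      rw [SetLike.mem_coe, mem_fx] at hv1 hv2
      have key : ∀ E : SU (k + l) F q, L (k + l) F q (A * E * A⁻¹) v = v →
          L (k + l) F q E (L (k + l) F q A⁻¹ v) = L (k + l) F q A⁻¹ v := by
        intro E hE
        have h1 := congrArg (L (k + l) F q A⁻¹) hE
        rw [← Module.End.mul_apply, ← map_mul] at h1
        rw [← Module.End.mul_apply, ← map_mul, ← h1]
        congr 2
        group
      rw [hDt] at hv1
      rw [hDs] at hv2
      have h1 := key _ hv1
      have h2 := key _ hv2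
      rw [hCt] at h1
      rw [hCs] at h2
      have h3 := eq_zero_of_blk hF hs ht (by omega) (by omega) hso hto
        (by rw [← pow_mul, mul_comm, pow_mul, hxs, one_pow]) hx1
        (by rw [← pow_mul, mul_comm, pow_mul, hyt, one_pow]) hy1 h1 h2
      have h4 := congrArg (L (k + l) F q A) h3
      rw [map_zero, ← Module.End.mul_apply, ← map_mul, mul_inv_cancel, map_one] at h4
      exact h4
    have hWX : W ≤ fx (L (k + l) F q (D ^ t)) := by
      refine le_fx hrs ?_ (hinv t) ?_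
      · rw [← map_pow, ← pow_mul, hDts, map_one]
      · rw [hF]; exact hWs
    have hWY : W ⊓ fx (L (k + l) F q (D ^ s)) = ⊥ := by
      rw [eq_bot_iff, ← hcom]
      exact inf_le_inf_right _ hWX
    have hYt : (L (k + l) F q (D ^ s)) ^ t = 1 := by
      rw [← map_pow, ← pow_mul, mul_comm, hDts, map_one]
    rcases hWt with hWt | ⟨hWn, hWl⟩
    · apply hW0
      rw [← hWY]
      exact (inf_eq_left.2 (le_fx hrt hYt (hinv s) (by rw [hF]; exact hWt))).symm
    · apply hWl
      have hnd : Nd (hermForm (k + l) F q) W := by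
        intro u hu hu0
        obtain ⟨v, hv, hv1⟩ := (hWn u hu hu0).2
        exact ⟨v, hv, hv1⟩
      have h9 := H950.ord_neg_dvd hF htq (L_isom _) hYt (hinv s) hnd hWY
      rwa [hto] at h9

theorem isMaximalIn_pre {M : Subgroup (PSU n F q)} (hM : IsCoatom M) :
    IsMaximalIn (Cfsg.GU n F q ⊓ specialLinear (Fin n) F) (pre M) := by
  have hmem : ∀ y : SU n F q, H918.suHom n F q y ∈ pre M ↔ QuotientGroup.mk' (Subgroup.center (SU n F q)) y ∈ M := by
    intro y
    constructor
    · rintro ⟨z, hz, h1⟩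
      rw [← H918.suHom_injective h1]
      exact hz
    · intro h
      exact ⟨y, h, rfl⟩
  refine ⟨lt_of_le_of_ne (pre_le M) fun h => hM.1 ?_, fun K hK1 hK2 => ?_⟩
  · rw [eq_top_iff]
    intro x _
    obtain ⟨y, rfl⟩ := QuotientGroup.mk'_surjective _ x
    exact (hmem y).1 (by rw [h]; exact H918.suHom_mem y)
  · have hcen : ∀ z ∈ Subgroup.center (SU n F q), H918.suHom n F q z ∈ pre M := by
      intro z hz
      rw [hmem]
      have h1 : QuotientGroup.mk' (Subgroup.center (SU n F q)) z = 1 := by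
        rw [QuotientGroup.mk'_apply, QuotientGroup.eq_one_iff]
        exact hz
      rw [h1]
      exact M.one_mem
    let M' : Subgroup (PSU n F q) :=
      (K.comap (H918.suHom n F q)).map (QuotientGroup.mk' (Subgroup.center (SU n F q)))
    have hle : M ≤ M' := by
      intro x hx
      obtain ⟨y, rfl⟩ := QuotientGroup.mk'_surjective _ x
      exact ⟨y, hK1 ((hmem y).2 hx), rfl⟩
    rcases hM.le_iff.1 hle with h1 | h1
    · right
      refine le_antisymm hK2 fun g hg => ?_
      obtain ⟨y, rfl⟩ := H918.exists_suHom hg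
      have h2 : QuotientGroup.mk' (Subgroup.center (SU n F q)) y ∈ M' := by rw [h1]; exact Subgroup.mem_top _
      obtain ⟨y', hy', h3⟩ := h2
      have h4 : y'⁻¹ * y ∈ Subgroup.center (SU n F q) := QuotientGroup.eq.1 h3
      have h5 : y = y' * (y'⁻¹ * y) := by group
      rw [h5, map_mul]
      exact K.mul_mem hy' (hK1 (hcen _ h4))
    · left
      refine le_antisymm (fun g hg => ?_) hK1
      obtain ⟨y, rfl⟩ := H918.exists_suHom (hK2 hg)
      rw [hmem, ← h1]
      exact ⟨y, hg, rfl⟩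

end blocks

end Cfsg.Agent.H729.CovU
end

-- part: H680/Cov/SU6/Res
section
set_option linter.all false
open scoped Cfsg.Agent.FastGrp

/-!
# S2499, `SU_6(q)`: the residual class (helper680)

`two_primes` : a coatom of `PSU_6(q)`, `q ≥ 3`, in the residual class (hypothesis: S5803), of order divisible by two
distinct primes `r, s ≥ 7` not dividing `q ^ 2 - 1`: these primes divide the order of `Aut (U_3(q))`.
-/

set_option autoImplicit false
set_option linter.unusedSectionVars false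

namespace Cfsg.Agent.H680.Cov.SU6

open Cfsg Cfsg.Geo Cfsg.Agent.H251.GeoU
open scoped Matrix MatrixGroups

universe u

/-- the text of S5803 -/
def R5803 (F : Type u) [Field F] [Fintype F] (q : ℕ) : Prop :=
  ∀ H : Subgroup (Matrix.GeneralLinearGroup (Fin 6) F),
    Cfsg.Geo.IsMaximalIn (Cfsg.GU 6 F q ⊓ Cfsg.Geo.specialLinear (Fin 6) F) H →
    Cfsg.Geo.InUnitaryResidualClass H →
    ∃ P : Subgroup (Matrix.GeneralLinearGroup (Fin 6) F), Cfsg.Geo.IsResidualCore H P ∧
    ((Nonempty ((P ⧸ (Cfsg.Geo.scalars (Fin 6) F).subgroupOf P) ≃* Matrix.ProjectiveSpecialLinearGroup (Fin 2) (ZMod 11)) ∧ q.Prime ∧ q ≠ 2 ∧ (q % 11 = 2 ∨ q % 11 = 6 ∨ q % 11 = 7 ∨ q % 11 = 8 ∨ q % 11 = 10)) ∨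
     (Nonempty ((P ⧸ (Cfsg.Geo.scalars (Fin 6) F).subgroupOf P) ≃* alternatingGroup (Fin 7)) ∧ q.Prime ∧ (q % 24 = 17 ∨ q % 24 = 23)) ∨
     ((∃ (K : Type) (_ : Field K) (_ : Fintype K), Fintype.card K = 4 ∧ Nonempty ((P ⧸ (Cfsg.Geo.scalars (Fin 6) F).subgroupOf P) ≃* Matrix.ProjectiveSpecialLinearGroup (Fin 3) K)) ∧ q.Prime ∧ (q % 24 = 5 ∨ q % 24 = 23)) ∨
     (Cfsg.Spor.IsoM22 (P ⧸ (Cfsg.Geo.scalars (Fin 6) F).subgroupOf P) ∧ q = 2) ∨
     ((∃ (K : Type) (_ : Field K) (_ : Fintype K), Fintype.card K = 9 ∧ Nonempty ((P ⧸ (Cfsg.Geo.scalars (Fin 6) F).subgroupOf P) ≃* Cfsg.PSU 4 K 3)) ∧ (q = 2 ∨ (q.Prime ∧ (q % 12 = 5 ∨ q % 12 = 11)))) ∨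
     (Nonempty ((P ⧸ (Cfsg.Geo.scalars (Fin 6) F).subgroupOf P) ≃* Cfsg.PSU 3 F q) ∧ Odd q))

section

variable {ι : Type} [Fintype ι] [DecidableEq ι] {F : Type u} [Field F] [Fintype F]

theorem prime_dvd_aut {r : ℕ} (hr : r.Prime) (hrF : ¬ r ∣ Nat.card F - 1) {H P : Subgroup (GL ι F)}
    (h : IsResidualCore H P) (hH : r ∣ Nat.card H) {A : Type*} [Group A]
    (e : (P ⧸ (scalars ι F).subgroupOf P) ≃* A) : r ∣ Nat.card (MulAut A) := by
  have hfr := Fact.mk hr
  obtain ⟨g, hg⟩ := exists_prime_orderOf_dvd_card' r hH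
  have hg' : orderOf (g : GL ι F) = r := by rw [Subgroup.orderOf_coe, hg]
  have h1 := H900.SU4.card_dvd_of_core (B := Subgroup.zpowers (g : GL ι F)) h (Subgroup.subtype _) (by
    intro b
    obtain ⟨k, hk⟩ := Subgroup.mem_zpowers_iff.1 b.2
    change (b : GL ι F) ∈ H
    rw [← hk]
    exact H.zpow_mem g.2 k) (by
    intro b hb
    have hb' : (b : GL ι F) ∈ scalars ι F := hb
    have h2 : orderOf (b : GL ι F) ∣ Nat.card F - 1 := by
      rw [← Subgroup.orderOf_mk (b : GL ι F) hb']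
      exact (orderOf_dvd_natCard _).trans H251.GeoCard.card_scalars_dvd
    have h3 : orderOf (b : GL ι F) ∣ r := by
      have h5 := orderOf_dvd_natCard b
      rwa [Nat.card_zpowers, hg', ← Subgroup.orderOf_coe] at h5
    have h4 : orderOf (b : GL ι F) = 1 := by
      rcases (Nat.dvd_prime hr).1 h3 with h5 | h5
      · exact h5
      · rw [h5] at h2
        exact absurd h2 hrF
    apply Subtype.ext
    exact orderOf_eq_one_iff.1 h4)
  rwa [Nat.card_zpowers, hg', Nat.card_congr (MulAut.congr e).toEquiv] at h1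

theorem prime_seven {r N : ℕ} (hr : r.Prime) (hr7 : 7 ≤ r) {a b c d : ℕ} (h : r ∣ N)
    (hN : N ∣ 2 ^ a * 3 ^ b * 5 ^ c * 7 ^ d) : r = 7 := by
  have h1 := h.trans hN
  rcases hr.dvd_mul.1 h1 with h2 | h2
  · rcases hr.dvd_mul.1 h2 with h2 | h2
    · rcases hr.dvd_mul.1 h2 with h2 | h2
      · have := (Nat.prime_dvd_prime_iff_eq hr Nat.prime_two).1 (hr.dvd_of_dvd_pow h2)
        omega
      · have := (Nat.prime_dvd_prime_iff_eq hr Nat.prime_three).1 (hr.dvd_of_dvd_pow h2)
        omega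
    · have := (Nat.prime_dvd_prime_iff_eq hr Nat.prime_five).1 (hr.dvd_of_dvd_pow h2)
      omega
  · exact (Nat.prime_dvd_prime_iff_eq hr (by norm_num)).1 (hr.dvd_of_dvd_pow h2)

theorem aut_l211 {r : ℕ} (hr : r.Prime) (hr7 : 7 ≤ r)
    (h : r ∣ Nat.card (MulAut (Matrix.ProjectiveSpecialLinearGroup (Fin 2) (ZMod 11)))) : r = 11 := by
  have h11 : Fact (Nat.Prime 11) := ⟨by norm_num⟩
  rw [S0813.result 11 1 le_rfl (by rw [ZMod.card, pow_one]) 2 le_rfl (fun _ => by norm_num), if_pos rfl, one_mul,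
    one_mul, ClassicalGeometry.PSL2Basic.card_PGL2, ZMod.card] at h
  have h1 : r ∣ (2 ^ 3 * 3 ^ 1 * 5 ^ 1) * 11 := by
    have : (11 * (11 ^ 2 - 1) : ℕ) = (2 ^ 3 * 3 ^ 1 * 5 ^ 1) * 11 := by norm_num
    rwa [this] at h
  rcases hr.dvd_mul.1 h1 with h2 | h2
  · have := prime_seven (a := 3) (b := 1) (c := 1) (d := 0) hr hr7 h2 (by norm_num)
    subst this
    norm_num at h2
  · exact (Nat.prime_dvd_prime_iff_eq hr (by norm_num)).1 h2

theorem aut_a7 {r : ℕ} (hr : r.Prime) (hr7 : 7 ≤ r) (h : r ∣ Nat.card (MulAut (alternatingGroup (Fin 7)))) : r = 7 :=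
  prime_seven (a := 4) (b := 2) (c := 1) (d := 1) hr hr7 h (H900.SU4.card_mulAut_alt_seven.trans (by norm_num))

theorem aut_l34 {r : ℕ} (hr : r.Prime) (hr7 : 7 ≤ r) {K : Type} [Field K] [Fintype K] (hK : Fintype.card K = 4)
    (h : r ∣ Nat.card (MulAut (Matrix.ProjectiveSpecialLinearGroup (Fin 3) K))) : r = 7 := by
  have h2 : Fact (Nat.Prime 2) := ⟨Nat.prime_two⟩
  have h1 := S0813.result (F := K) 2 2 (by norm_num) (by rw [hK]; norm_num) 3 (by norm_num) (by norm_num)
  rw [h1] at h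
  have h3 : Nat.card (Matrix.ProjGenLinGroup (Fin 3) K) ∣ 181440 := by
    have h4 : Nat.card (Matrix.ProjGenLinGroup (Fin 3) K) ∣ Nat.card (GL (Fin 3) K) := Subgroup.card_quotient_dvd_card _
    refine h4.trans ?_
    rw [Matrix.card_GL_field, hK, Fin.prod_univ_three]
    norm_num
  refine prime_seven (a := 20) (b := 10) (c := 3) (d := 2) hr hr7 h ?_
  rw [if_neg (by norm_num)]
  refine (Nat.mul_dvd_mul_left _ h3).trans ?_
  norm_num

theorem aut_u43 {r : ℕ} (hr : r.Prime) (hr7 : 7 ≤ r) {K : Type} [Field K] [Fintype K] (hK : Fintype.card K = 9)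
    (h : r ∣ Nat.card (MulAut (Cfsg.PSU 4 K 3))) : r = 7 := by
  have h3 : Fact (Nat.Prime 3) := ⟨Nat.prime_three⟩
  have hK' : Fintype.card K = 3 ^ 2 := by rw [hK]; norm_num
  rw [S0815.result 3 1 le_rfl (by norm_num) hK' 4 (by norm_num) (by norm_num)] at h
  have h1 := S0280.result hK' 4 (by norm_num)
  simp [Finset.prod_range_succ, Nat.even_iff] at h1
  have h2 : Nat.card (Cfsg.PSU 4 K 3) = 3265920 := by omega
  rw [h2] at h
  exact prime_seven (a := 12) (b := 6) (c := 1) (d := 1) hr hr7 h (by norm_num)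

end

section

variable {F : Type u} [Field F] [Fintype F] {q : ℕ}

/-- primes dividing the order of `Aut (U_3(q))` -/
theorem aut_u3 (hF : Fintype.card F = q ^ 2) (hq3 : 3 ≤ q) {p f : ℕ} (hp : p.Prime) (hq : q = p ^ f) (hf : 1 ≤ f)
    {r i : ℕ} (hr : r.Prime) (hr7 : 7 ≤ r) (hi : orderOf (-(q : ZMod r)) = i) (hi4 : 4 ≤ i) (hrf : ¬ r ∣ f)
    (h : r ∣ Nat.card (MulAut (Cfsg.PSU 3 F q))) : False := by
  have hfr := Fact.mk hr
  have hfp := Fact.mk hp
  have hrq := not_dvd_of_ord hr hi (by omega)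
  rw [S0815.result p f hf hq hF 3 le_rfl (by omega)] at h
  have h1 := S0280.result hF 3 (by norm_num)
  simp only [Finset.prod_range_succ, Finset.prod_range_zero, one_mul, Nat.even_iff] at h1
  norm_num at h1
  have h3 : r ∣ q ^ 3 * ((q + 1) * (q ^ 2 - 1) * (q ^ 3 + 1)) ∨ r ∣ f := by
    rcases hr.dvd_mul.1 h with h2 | h2
    · rcases hr.dvd_mul.1 h2 with h2 | h2
      · have h4 := (h2.trans (Nat.gcd_dvd_left _ _))
        have := Nat.le_of_dvd (by norm_num) h4
        omega
      · rcases hr.dvd_mul.1 h2 with h2 | h2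
        · have := Nat.le_of_dvd (by norm_num) h2
          omega
        · exact Or.inr h2
    · left
      rw [← h1]
      exact Dvd.dvd.mul_left (Dvd.dvd.mul_left h2 _) _
  have hord : ∀ k : ℕ, (-(q : ZMod r)) ^ k = 1 → 1 ≤ k → k ≤ 3 → False := by
    intro k hk hk1 hk3
    have h4 := Nat.le_of_dvd (by omega) (orderOf_dvd_of_pow_eq_one hk)
    omega
  rcases h3 with h3 | h3
  · rcases hr.dvd_mul.1 h3 with h2 | h2
    · exact hrq (hr.dvd_of_dvd_pow h2)
    · rcases hr.dvd_mul.1 h2 with h2 | h2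
      · rcases hr.dvd_mul.1 h2 with h2 | h2
        · apply hord 1 _ le_rfl (by norm_num)
          have h4 : ((q + 1 : ℕ) : ZMod r) = 0 := (ZMod.natCast_eq_zero_iff _ _).2 h2
          push_cast at h4
          linear_combination (-1 : ZMod r) * h4
        · apply hord 2 _ (by norm_num) (by norm_num)
          have h4 : ((q ^ 2 - 1 : ℕ) : ZMod r) = 0 := (ZMod.natCast_eq_zero_iff _ _).2 h2
          rw [Nat.cast_sub (Nat.one_le_pow _ _ (by omega))] at h4
          push_cast at h4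
          linear_combination h4
      · apply hord 3 _ (by norm_num) le_rfl
        have h4 : ((q ^ 3 + 1 : ℕ) : ZMod r) = 0 := (ZMod.natCast_eq_zero_iff _ _).2 h2
        push_cast at h4
        linear_combination (-1 : ZMod r) * h4
  · exact hrf h3

theorem two_primes (hR : R5803 F q) (hq3 : 3 ≤ q) {M : Subgroup (PSU 6 F q)}
    (hM : IsCoatom M) (hres : InUnitaryResidualClass (pre M)) {r s : ℕ} (hr : r.Prime) (hr7 : 7 ≤ r) (hs : s.Prime)
    (hs7 : 7 ≤ s) (hrs : r ≠ s) (hrF : ¬ r ∣ Nat.card F - 1) (hsF : ¬ s ∣ Nat.card F - 1) (hrM : r ∣ Nat.card M)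
    (hsM : s ∣ Nat.card M) : r ∣ Nat.card (MulAut (Cfsg.PSU 3 F q)) ∧ s ∣ Nat.card (MulAut (Cfsg.PSU 3 F q)) := by
  have hrM' := hrM.trans (card_dvd_pre M)
  have hsM' := hsM.trans (card_dvd_pre M)
  obtain ⟨P, hc, h | h | h | h | h | h⟩ := hR _ (H729.CovU.isMaximalIn_pre hM) hres
  · obtain ⟨⟨e⟩, -⟩ := h
    exfalso
    apply hrs
    rw [aut_l211 hr hr7 (prime_dvd_aut hr hrF hc hrM' e), aut_l211 hs hs7 (prime_dvd_aut hs hsF hc hsM' e)]
  · obtain ⟨⟨e⟩, -⟩ := h
    exfalso
    apply hrs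
    rw [aut_a7 hr hr7 (prime_dvd_aut hr hrF hc hrM' e), aut_a7 hs hs7 (prime_dvd_aut hs hsF hc hsM' e)]
  · obtain ⟨⟨K, _, _, hK, ⟨e⟩⟩, -⟩ := h
    exfalso
    apply hrs
    rw [aut_l34 hr hr7 hK (prime_dvd_aut hr hrF hc hrM' e), aut_l34 hs hs7 hK (prime_dvd_aut hs hsF hc hsM' e)]
  · obtain ⟨-, h2⟩ := h
    omega
  · obtain ⟨⟨K, _, _, hK, ⟨e⟩⟩, -⟩ := h
    exfalso
    apply hrs
    rw [aut_u43 hr hr7 hK (prime_dvd_aut hr hrF hc hrM' e), aut_u43 hs hs7 hK (prime_dvd_aut hs hsF hc hsM' e)]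
  · obtain ⟨⟨e⟩, -⟩ := h
    exact ⟨prime_dvd_aut hr hrF hc hrM' e, prime_dvd_aut hs hsF hc hsM' e⟩

end

end Cfsg.Agent.H680.Cov.SU6
end

-- part: H834/Cov/Blk
section
set_option linter.all false
open scoped Cfsg.Agent.FastGrp

/-!
# Block diagonal elements of `SU_n(q)` without eigenvectors (helper834, task 3952)

* `NoEig A` : the matrix `A` has no eigenvector over `F`;
* `exists_prime_elt` : elements of prime order `s`, `-q` of order `i ≤ n` modulo `s`;
* `exists_three_blk` : an element of `SU_{3+k}(q)` without eigenvectors, of order divisible by `r`.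
-/

set_option autoImplicit false
set_option linter.unusedSectionVars false

namespace Cfsg.Agent.H834.Cov

open Cfsg Cfsg.Geo Module Cfsg.Agent.H918 Cfsg.Agent.H251 Cfsg.Agent.H951 Cfsg.Agent.H674.SUBlock
open Cfsg.Agent.LieClassical
open scoped Matrix MatrixGroups

section NoEig

variable {F : Type*} [Field F] {n : ℕ}

/-- no eigenvectors -/
def NoEig (A : Matrix (Fin n) (Fin n) F) : Prop := ∀ (v : Fin n → F) (c : F), A *ᵥ v = c • v → v = 0

theorem NoEig.smul {A : Matrix (Fin n) (Fin n) F} (hA : NoEig A) {a : F} (ha : a ≠ 0) : NoEig (a • A) := by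
  intro v c h
  apply hA v (a⁻¹ * c)
  rw [Matrix.smul_mulVec] at h
  rw [mul_smul, ← h, smul_smul, inv_mul_cancel₀ ha, one_smul]

theorem NoEig.conj {A : GL (Fin n) F} (hA : NoEig (A : Matrix (Fin n) (Fin n) F)) (g : GL (Fin n) F) :
    NoEig ((g * A * g⁻¹ : GL (Fin n) F) : Matrix (Fin n) (Fin n) F) := by
  intro v c h
  have h1 : ((g⁻¹ : GL (Fin n) F) : Matrix (Fin n) (Fin n) F) *ᵥ v = 0 := by
    apply hA _ c
    have h2 := congrArg (fun w => ((g⁻¹ : GL (Fin n) F) : Matrix (Fin n) (Fin n) F) *ᵥ w) h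
    simp only [Matrix.mulVec_mulVec, Matrix.mulVec_smul, ← Units.val_mul] at h2
    rw [Matrix.mulVec_mulVec, ← Units.val_mul, ← h2]
    congr 2
    group
  have h3 := congrArg (fun w => (g : Matrix (Fin n) (Fin n) F) *ᵥ w) h1
  simp only [Matrix.mulVec_mulVec, ← Units.val_mul, mul_inv_cancel, Units.val_one, Matrix.one_mulVec,
    Matrix.mulVec_zero] at h3
  exact h3

theorem NoEig.not_inv {A : Matrix (Fin n) (Fin n) F} (hA : NoEig A) {W : Submodule F (Fin n → F)}
    (hW : _root_.Cfsg.Agent.H951.Inv (Matrix.toLin' A) W) (h1 : finrank F W = 1) : False := by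
  obtain ⟨⟨v, hv⟩, hv0, hvs⟩ := finrank_eq_one_iff'.1 h1
  obtain ⟨c, hc⟩ := hvs ⟨_, hW v hv⟩
  have h2 : c • v = Matrix.toLin' A v := congrArg Subtype.val hc
  apply hv0
  apply Subtype.ext
  apply hA v c
  rw [h2, Matrix.toLin'_apply]

variable {d k : ℕ}

theorem blk_mulVec_left (A : Matrix (Fin d) (Fin d) F) (B : Matrix (Fin k) (Fin k) F) (v : Fin (d + k) → F) (i : Fin d) :
    (blk A B *ᵥ v) (Fin.castAdd k i) = (A *ᵥ fun j => v (Fin.castAdd k j)) i := by
  rw [blk, Matrix.reindex_apply, Matrix.submatrix_mulVec_equiv, Matrix.fromBlocks_mulVec]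
  simp only [Function.comp_apply, finSumFinEquiv_symm_apply_castAdd, Sum.elim_inl, Matrix.zero_mulVec, add_zero]
  rfl

theorem blk_mulVec_right (A : Matrix (Fin d) (Fin d) F) (B : Matrix (Fin k) (Fin k) F) (v : Fin (d + k) → F)
    (i : Fin k) : (blk A B *ᵥ v) (Fin.natAdd d i) = (B *ᵥ fun j => v (Fin.natAdd d j)) i := by
  rw [blk, Matrix.reindex_apply, Matrix.submatrix_mulVec_equiv, Matrix.fromBlocks_mulVec]
  simp only [Function.comp_apply, finSumFinEquiv_symm_apply_natAdd, Sum.elim_inr, Matrix.zero_mulVec, zero_add]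
  rfl

theorem NoEig.blk {A : Matrix (Fin d) (Fin d) F} {B : Matrix (Fin k) (Fin k) F} (hA : NoEig A) (hB : NoEig B) :
    NoEig (blk A B) := by
  intro v c h
  have h1 : (fun j => v (Fin.castAdd k j)) = 0 := by
    apply hA _ c
    funext i
    rw [← blk_mulVec_left A B, h]
    rfl
  have h2 : (fun j => v (Fin.natAdd d j)) = 0 := by
    apply hB _ c
    funext i
    rw [← blk_mulVec_right A B, h]
    rfl
  funext i
  refine Fin.addCases (fun j => ?_) (fun j => ?_) i
  · exact congrFun h1 j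
  · exact congrFun h2 j

theorem blk_pow (A : Matrix (Fin d) (Fin d) F) (B : Matrix (Fin k) (Fin k) F) (m : ℕ) :
    blk A B ^ m = blk (A ^ m) (B ^ m) := by
  induction m with
  | zero => rw [pow_zero, pow_zero, pow_zero, blk_one]
  | succ m ih => rw [pow_succ, pow_succ, pow_succ, ih, ← blk_mul]

end NoEig

section Elt

variable {F : Type*} [Field F] [Fintype F] {n q : ℕ}

/-- elements of prime order -/
theorem exists_prime_elt (hF : Fintype.card F = q ^ 2) (hn : 2 ≤ n) {s i : ℕ} (hs : s.Prime) (hi : 2 ≤ i)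
    (hin : i ≤ n) (ho : orderOf (-(q : ZMod s)) = i) : ∃ g ∈ SUg n F q, orderOf g = s := by
  have := Fact.mk hs
  have hfin : Finite (Cfsg.SU n F q) := inferInstance
  have h1 := H149.PGU.dvd_card_psu hF hn hs hi hin ho
  have h2 : s ∣ Nat.card (Cfsg.SU n F q) := h1.trans (Subgroup.card_quotient_dvd_card _)
  obtain ⟨x, hx⟩ := exists_prime_orderOf_dvd_card' s h2
  exact ⟨suHom n F q x, suHom_mem x, by rw [orderOf_injective _ suHom_injective, hx]⟩

theorem isom_of_mem {g : GL (Fin n) F} (hg : g ∈ SUg n F q) :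
    Isom (hermForm n F q) (Matrix.toLin' (g : Matrix (Fin n) (Fin n) F)) := by
  intro u v
  rw [Matrix.toLin'_apply, Matrix.toLin'_apply]
  exact H918.mem_GU.1 hg.1 u v

theorem toLin_pow_eq {g : GL (Fin n) F} {s : ℕ} (ho : orderOf g = s) :
    (Matrix.toLin' (g : Matrix (Fin n) (Fin n) F)) ^ s = 1 := by
  rw [← GeoCard.toLin_pow, ← ho, pow_orderOf_eq_one, Units.val_one, Matrix.toLin'_one]
  rfl

theorem toLin_ne {g : GL (Fin n) F} {s : ℕ} (hs : s.Prime) (ho : orderOf g = s) :
    Matrix.toLin' (g : Matrix (Fin n) (Fin n) F) ≠ 1 := by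
  intro h1
  have h2 : g = 1 := by
    apply Units.ext
    apply Matrix.toLin'.injective
    rw [h1]
    change _ = Matrix.toLin' (1 : Matrix (Fin n) (Fin n) F)
    rw [Matrix.toLin'_one]
    rfl
  rw [h2, orderOf_one] at ho
  exact hs.one_lt.ne ho

/-- the fixed space of an element of prime order `s` -/
theorem fix_le (hF : Fintype.card F = q ^ 2) {s m : ℕ} (hs : s.Prime) (hord : orderOf (-(q : ZMod s)) = m)
    (hm : 1 ≤ m) {g : GL (Fin n) F} (hg : g ∈ SUg n F q) (ho : orderOf g = s) :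
    finrank F ↥(fx (Matrix.toLin' (g : Matrix (Fin n) (Fin n) F))) + m ≤ n := by
  have := Fact.mk hs
  have h := GeoU.fix_le hF (GeoU.not_dvd_of_ord hs hord hm) (isom_of_mem hg) (toLin_pow_eq ho) (toLin_ne hs ho)
  rwa [hord] at h

/-- small invariant subspaces are fixed -/
theorem le_fx (hF : Fintype.card F = q ^ 2) {s m : ℕ} (hs : s.Prime) (hord : orderOf (-(q : ZMod s)) = m)
    (hm : 1 ≤ m) {g : GL (Fin n) F} (ho : orderOf g = s) {W : Submodule F (Fin n → F)}
    (hW : _root_.Cfsg.Agent.H951.Inv (Matrix.toLin' (g : Matrix (Fin n) (Fin n) F)) W)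
    (hlt : finrank F W < orderOf ((q ^ 2 : ℕ) : ZMod s)) :
    W ≤ fx (Matrix.toLin' (g : Matrix (Fin n) (Fin n) F)) := by
  have := Fact.mk hs
  apply GeoU.le_fx (GeoU.natCast_ne hF hs (GeoU.not_dvd_of_ord hs hord hm)) (toLin_pow_eq ho) hW
  rwa [hF]

/-- an element of prime order `s` with `-q` of order `n` modulo `s` has no small invariant subspaces -/
theorem eq_bot_of_inv (hF : Fintype.card F = q ^ 2) {s : ℕ} (hs : s.Prime) (hord : orderOf (-(q : ZMod s)) = n)
    (hn : 1 ≤ n) {g : GL (Fin n) F} (hg : g ∈ SUg n F q) (ho : orderOf g = s) {W : Submodule F (Fin n → F)}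
    (hW : _root_.Cfsg.Agent.H951.Inv (Matrix.toLin' (g : Matrix (Fin n) (Fin n) F)) W)
    (hlt : finrank F W < orderOf ((q ^ 2 : ℕ) : ZMod s)) : finrank F W = 0 := by
  have h1 := fix_le hF hs hord hn hg ho
  have h2 := Submodule.finrank_mono (le_fx hF hs hord hn ho hW hlt)
  omega

theorem noEig_of_prime (hF : Fintype.card F = q ^ 2) {s : ℕ} (hs : s.Prime) (hord : orderOf (-(q : ZMod s)) = n)
    (hn : 1 ≤ n) (h2 : 1 < orderOf ((q ^ 2 : ℕ) : ZMod s)) {g : GL (Fin n) F} (hg : g ∈ SUg n F q)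
    (ho : orderOf g = s) : NoEig (g : Matrix (Fin n) (Fin n) F) := by
  intro v c hv
  by_contra hv0
  have hW : _root_.Cfsg.Agent.H951.Inv (Matrix.toLin' (g : Matrix (Fin n) (Fin n) F)) (Submodule.span F {v}) := by
    intro w hw
    obtain ⟨a, rfl⟩ := Submodule.mem_span_singleton.1 hw
    rw [Matrix.toLin'_apply, Matrix.mulVec_smul, hv]
    exact Submodule.smul_mem _ _ (Submodule.smul_mem _ _ (Submodule.mem_span_singleton_self v))
  have h1 := eq_bot_of_inv hF hs hord hn hg ho hW (by rw [finrank_span_singleton hv0]; exact h2)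
  rw [finrank_span_singleton hv0] at h1
  omega

/-- a block diagonal element -/
theorem exists_blk (hF : Fintype.card F = q ^ 2) {d k : ℕ} {A : Matrix (Fin d) (Fin d) F} {B : Matrix (Fin k) (Fin k) F}
    (hA : Aᵀ * A.map (GUOrder.frob hF) = 1) (hB : Bᵀ * B.map (GUOrder.frob hF) = 1) (hdet : A.det * B.det = 1) :
    ∃ g ∈ SUg (d + k) F q, (g : Matrix (Fin (d + k)) (Fin (d + k)) F) = blk A B := by
  have h1 : (blk A B).det = 1 := by rw [det_blk, hdet]
  refine ⟨suHom _ F q (H674.SUTools.mkSU hF (blk A B) h1 (isom_blk hF hA hB)), suHom_mem _, rfl⟩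

theorem gu_of_mem (hF : Fintype.card F = q ^ 2) {g : GL (Fin n) F} (hg : g ∈ SUg n F q) :
    (g : Matrix (Fin n) (Fin n) F)ᵀ * (g : Matrix (Fin n) (Fin n) F).map (GUOrder.frob hF) = 1 :=
  (GUOrder.mul_map_eq_one_iff hF _).1 hg.1

theorem gu_smul (hF : Fintype.card F = q ^ 2) {A : Matrix (Fin n) (Fin n) F} (hA : Aᵀ * A.map (GUOrder.frob hF) = 1)
    {a : F} (ha : a * a ^ q = 1) : (a • A)ᵀ * (a • A).map (GUOrder.frob hF) = 1 := by
  have h1 : (a • A).map (GUOrder.frob hF) = a ^ q • A.map (GUOrder.frob hF) := by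
    ext i j
    simp only [Matrix.map_apply, Matrix.smul_apply, smul_eq_mul, map_mul]
    rfl
  rw [h1, Matrix.transpose_smul, Matrix.smul_mul, Matrix.mul_smul, hA, smul_smul, ha, one_smul]

/-- `r` divides the order of a block diagonal element -/
theorem dvd_order {d k : ℕ} {g : GL (Fin (d + k)) F} {A : Matrix (Fin d) (Fin d) F} {b : GL (Fin k) F} {c : F}
    (hg : (g : Matrix (Fin (d + k)) (Fin (d + k)) F) = blk A (c • (b : Matrix (Fin k) (Fin k) F)))
    {r N : ℕ} (hr : r.Prime) (hN : ¬ r ∣ N) (hc : c ^ N = 1) (hb : orderOf b = r) : r ∣ orderOf g := by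
  have h1 : (g : Matrix (Fin (d + k)) (Fin (d + k)) F) ^ (orderOf g * N) = 1 := by
    rw [← Units.val_pow_eq_pow_val, pow_mul, pow_orderOf_eq_one, one_pow, Units.val_one]
  rw [hg, blk_pow, ← blk_one] at h1
  have h2 := (blk_inj h1).2
  rw [_root_.smul_pow, mul_comm (orderOf g) N, pow_mul, hc, one_pow, one_smul, ← Units.val_pow_eq_pow_val] at h2
  have h3 : b ^ (N * orderOf g) = 1 := Units.ext h2
  have h4 := orderOf_dvd_of_pow_eq_one h3
  rw [hb] at h4
  exact (hr.dvd_mul.1 h4).resolve_left hN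

/-- dimension three over the field with four elements -/
theorem exists_three_two (hF : Fintype.card F = q ^ 2) (h2 : q = 2) : ∃ (A : Matrix (Fin 3) (Fin 3) F) (w : F),
    Aᵀ * A.map (GUOrder.frob hF) = 1 ∧ NoEig A ∧ A.det = w ∧ w ^ 3 = 1 := by
  classical
  have h4 : Fintype.card F = 4 := by rw [hF, h2]; norm_num
  obtain ⟨w, hw0, hw1⟩ : ∃ w : F, w ≠ 0 ∧ w ≠ 1 := by
    have h : ({0, 1} : Finset F).card < Fintype.card F := by
      rw [h4]
      exact lt_of_le_of_lt Finset.card_le_two (by norm_num)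
    obtain ⟨w, hw⟩ := Finset.exists_mem_notMem_of_card_lt_card (s := ({0, 1} : Finset F)) (t := Finset.univ) (by
      rwa [Finset.card_univ])
    simp only [Finset.mem_insert, Finset.mem_singleton, not_or] at hw
    exact ⟨w, hw.2.1, hw.2.2⟩
  have hcube : ∀ c : F, c ≠ 0 → c ^ 3 = 1 := by
    intro c hc
    have := FiniteField.pow_card_sub_one_eq_one c hc
    rwa [h4] at this
  have hfr : ∀ c : F, GUOrder.frob hF c = c ^ 2 := by
    intro c
    change c ^ q = c ^ 2
    rw [h2]
  refine ⟨!![0, 0, w; 1, 0, 0; 0, 1, 0], w, ?_, ?_, ?_, hcube w hw0⟩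
  · have h5 : w * w ^ 2 = 1 := by rw [← hcube w hw0]; ring
    ext i j
    (revert i j; simp only [Matrix.mul_apply, Fin.sum_univ_three, hfr, h5, _root_.Fin.forall_fin_succ, _root_.Matrix.transpose_apply, _root_.Matrix.of_apply, _root_.Matrix.cons_val', _root_.Matrix.cons_val_fin_one, _root_.Matrix.map_apply, Fin.isValue, _root_.Matrix.cons_val_zero, _root_.Matrix.cons_val_one, _root_.Matrix.cons_val, _root_.ne_eq, _root_.OfNat.ofNat_ne_zero, _root_.not_false_eq_true, _root_.zero_pow, _root_.MulZeroClass.mul_zero, _root_.one_pow, _root_.mul_one, _root_.zero_add, _root_.add_zero, _root_.Matrix.cons_val_succ, _root_.IsEmpty.forall_iff, _root_.and_true, _root_.Matrix.one_apply_eq, Nat.reduceAdd, _root_.Fin.succ_zero_eq_one, _root_.zero_ne_one, _root_.Matrix.one_apply_ne, _root_.MulZeroClass.zero_mul, _root_.Fin.succ_one_eq_two, Fin.reduceEq, _root_.and_self, _root_.Fin.succ_ne_zero, _root_.true_and])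
  · intro v c hv
    have e0 := congrFun hv 0
    have e1 := congrFun hv 1
    have e2 := congrFun hv 2
    simp only [Matrix.mulVec, dotProduct, Fin.sum_univ_three, _root_.Fin.isValue, _root_.Matrix.of_apply, _root_.Matrix.cons_val', _root_.Matrix.cons_val_fin_one, _root_.Matrix.cons_val_zero, _root_.MulZeroClass.zero_mul, _root_.Matrix.cons_val_one, _root_.add_zero, _root_.Matrix.cons_val, _root_.zero_add, _root_.Pi.smul_apply, _root_.smul_eq_mul, _root_.one_mul] at e0 e1 e2
    -- `w v₂ = c v₀`, `v₀ = c v₁`, `v₁ = c v₂`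
    have h6 : (w - c ^ 3) * v 2 = 0 := by
      rw [e2] at e1
      rw [e1] at e0
      linear_combination e0
    have h7 : w - c ^ 3 ≠ 0 := by
      by_cases hc : c = 0
      · rw [hc]; simpa using hw0
      · rw [hcube c hc]; exact sub_ne_zero.2 hw1
    have h8 : v 2 = 0 := (mul_eq_zero.1 h6).resolve_left h7
    have h9 : v 1 = 0 := by rw [e2, h8, mul_zero]
    have h10 : v 0 = 0 := by rw [e1, h9, mul_zero]
    funext i
    fin_cases i
    · exact h10
    · exact h9
    · exact h8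
  · rw [Matrix.det_fin_three]
    simp

/-- **block diagonal elements** `[3] + [k]` -/
theorem exists_three_blk (hF : Fintype.card F = q ^ 2) {k : ℕ} (hk : k = 4 ∨ k = 5) (hn : n = 3 + k) {b : GL (Fin k) F}
    (hb : b ∈ SUg k F q) (hNo : NoEig (b : Matrix (Fin k) (Fin k) F)) {r : ℕ} (hr : r.Prime) (ho : orderOf b = r)
    (hrq : ¬ r ∣ q + 1) : ∃ g ∈ SUg n F q, NoEig (g : Matrix (Fin n) (Fin n) F) ∧ r ∣ orderOf g := by
  subst hn
  obtain ⟨p, f, hp, hf, hq, hpF⟩ := GeoU.exists_prime_power hF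
  have hdb : (b : Matrix (Fin k) (Fin k) F).det = 1 := (mem_SUg.1 hb).2
  by_cases h2 : q = 2
  · obtain ⟨A, w, hA, hAn, hdet, hw⟩ := exists_three_two hF h2
    have hw0 : w ≠ 0 := by
      rintro rfl
      simp at hw
    -- the scalar
    obtain ⟨c, hc0, hc3, hck⟩ : ∃ c : F, c ≠ 0 ∧ c ^ 3 = 1 ∧ w * c ^ k = 1 := by
      rcases hk with rfl | rfl
      · refine ⟨w ^ 2, pow_ne_zero _ hw0, by rw [← pow_mul, mul_comm, pow_mul, hw, one_pow], ?_⟩
        calc w * (w ^ 2) ^ 4 = (w ^ 3) ^ 3 := by ring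
          _ = 1 := by rw [hw, one_pow]
      · refine ⟨w, hw0, hw, ?_⟩
        calc w * w ^ 5 = (w ^ 3) ^ 2 := by ring
          _ = 1 := by rw [hw, one_pow]
    have hcq : c * c ^ q = 1 := by
      rw [h2, ← hc3]; ring
    obtain ⟨g, hg, hgm⟩ := exists_blk hF hA (gu_smul hF (gu_of_mem hF hb) hcq) (by
      rw [Matrix.det_smul, Fintype.card_fin, hdb, hdet, mul_one, hck])
    refine ⟨g, hg, ?_, dvd_order hgm hr (N := 3) (by rwa [h2] at hrq) hc3 ho⟩
    rw [hgm]
    exact hAn.blk (hNo.smul hc0)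
  · obtain ⟨s, hs, hsord, -, -, -⟩ := H149.NegPrime.exists_neg_prime (i := 3) hp hq hf le_rfl (fun h => h2 h.2)
    obtain ⟨a, ha, hao⟩ := exists_prime_elt (n := 3) hF (by norm_num) hs (by norm_num) le_rfl hsord
    have haN : NoEig (a : Matrix (Fin 3) (Fin 3) F) := by
      refine noEig_of_prime hF hs hsord (by norm_num) ?_ ha hao
      rw [GeoU.ord_sq_odd hsord (by decide)]
      norm_num
    have hone : (1 : F) * 1 ^ q = 1 := by simp
    obtain ⟨g, hg, hgm⟩ := exists_blk hF (gu_of_mem hF ha) (gu_smul hF (gu_of_mem hF hb) hone) (by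
      rw [Matrix.det_smul, one_pow, one_mul, hdb, (mem_SUg.1 ha).2, mul_one])
    refine ⟨g, hg, ?_, dvd_order hgm hr (N := 1) (by
      intro h; exact hr.one_lt.ne' (Nat.dvd_one.1 h)) (by simp) ho⟩
    rw [hgm]
    exact haN.blk (hNo.smul one_ne_zero)

end Elt

end Cfsg.Agent.H834.Cov
end
end
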